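import Mathlib
import Groth.Agent.ModSiteLib.Colimits

/-!
# Generators of modules over an open of a ringed space
-/

set_option autoImplicit false
set_option linter.style.haveILetI false

universe u

open CategoryTheory CategoryTheory.Limits TopologicalSpace Opposite

noncomputable section

namespace AModFTLib

variable {T : TopCat.{u}} {R : Sheaf (Opens.grothendieckTopology T) RingCat.{u}} (M : SheafOfModules.{u} R)
  {U : Opens T}

/-- A section on `U` as a section of the restricted module. -/
def mkSec (t : M.val.obj (op U)) : (M.over U).sections :=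
  PresheafOfModules.sectionsMk (fun W => M.val.map (homOfLE (leOfHom W.unop.hom)).op t) fun W W' g =>
    (PresheafOfModules.map_comp_apply M.val (homOfLE (leOfHom W.unop.hom)).op g.unop.left.op t).symm.trans rfl

theorem mkSec_val (t : M.val.obj (op U)) {W : Opens T} (h : W ≤ U) :
    (mkSec M t).val (op (Over.mk (homOfLE h))) = M.val.map (homOfLE h).op t := rfl

/-- Every section of the restricted module is given on `U`. -/
theorem eq_mkSec (σ : (M.over U).sections) :
    σ = mkSec M (show M.val.obj (op U) from σ.val (op (Over.mk (𝟙 U)))) := by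
  refine Subtype.ext (funext fun W => ?_)
  exact (σ.property ((Over.homMk W.unop.hom (Category.comp_id W.unop.hom) : W.unop ⟶ Over.mk (𝟙 U))).op).symm

/-- Finitely many sections give a morphism from a free module. -/
abbrev gen {I : Type u} (s : I → M.val.obj (op U)) : SheafOfModules.free (R := R.over U) I ⟶ M.over U :=
  (M.over U).freeHomEquiv.symm fun i => mkSec M (s i)

theorem unit_app (φ : SheafOfModules.unit (R.over U) ⟶ M.over U) {t : M.val.obj (op U)}
    (h : (M.over U).unitHomEquiv φ = mkSec M t) {W : Opens T} (hW : W ≤ U) (c : R.obj.obj (op W)) :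
    φ.val.app (op (Over.mk (homOfLE hW))) c = c • M.val.map (homOfLE hW).op t := by
  have h1 : φ.val.app (op (Over.mk (homOfLE hW))) (1 : R.obj.obj (op W)) = M.val.map (homOfLE hW).op t :=
    congrArg (fun σ : (M.over U).sections => σ.val (op (Over.mk (homOfLE hW)))) h
  refine Eq.trans ?_ (congrArg (c • ·) h1)
  refine Eq.trans ?_ ((φ.val.app (op (Over.mk (homOfLE hW)))).hom.map_smul c (1 : R.obj.obj (op W)))
  exact congrArg _ (mul_one c).symm

open scoped Classical in
/-- The coordinates of a finite free module. -/
def coord {I : Type u} (i : I) : SheafOfModules.free (R := R.over U) I ⟶ SheafOfModules.unit (R.over U) :=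
  Cofan.IsColimit.desc (SheafOfModules.isColimitFreeCofan (R := R.over U) I)
    fun j => if j = i then 𝟙 _ else 0

open scoped Classical in
theorem ι_coord {I : Type u} (i j : I) :
    SheafOfModules.ιFree (R := R.over U) j ≫ coord i = if j = i then 𝟙 _ else 0 :=
  Cofan.IsColimit.fac _ _ j

theorem sum_coord {I : Type u} [Fintype I] :
    ∑ i : I, coord (R := R) (U := U) i ≫ SheafOfModules.ιFree i = 𝟙 _ := by
  classical
  refine Cofan.IsColimit.hom_ext (SheafOfModules.isColimitFreeCofan (R := R.over U) I) _ _ fun j => ?_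
  show SheafOfModules.ιFree j ≫ _ = SheafOfModules.ιFree j ≫ 𝟙 (SheafOfModules.free (R := R.over U) I)
  rw [Preadditive.comp_sum, Finset.sum_eq_single j]
  · rw [← Category.assoc, ι_coord, if_pos rfl, Category.id_comp]
    exact (Category.comp_id _).symm
  · intro b _ hb
    rw [← Category.assoc, ι_coord, if_neg (Ne.symm hb), zero_comp]
  · simp

theorem app_sum {N N' : SheafOfModules.{u} (R.over U)} {J : Type*} (s : Finset J) (φ : J → (N ⟶ N'))
    (W : (Over U)ᵒᵖ) (x : N.val.obj W) : (∑ j ∈ s, φ j).val.app W x = ∑ j ∈ s, (φ j).val.app W x :=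
  map_sum (⟨⟨fun χ : N ⟶ N' => χ.val.app W x, rfl⟩, fun _ _ => rfl⟩ : (N ⟶ N') →+ N'.val.obj W) φ s

/-- The image of a finite free module consists of combinations of the sections. -/
theorem exists_gen_app_eq {I : Type u} [Fintype I] (s : I → M.val.obj (op U)) {W : Opens T} (hW : W ≤ U)
    (x : (SheafOfModules.free (R := R.over U) I).val.obj (op (Over.mk (homOfLE hW)))) :
    ∃ c : I → R.obj.obj (op W),
      (gen M s).val.app (op (Over.mk (homOfLE hW))) x = ∑ i, c i • M.val.map (homOfLE hW).op (s i) := by
  refine ⟨fun i => (coord i).val.app (op (Over.mk (homOfLE hW))) x, ?_⟩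
  have h : gen M s =
      ∑ i : I, coord (R := R) (U := U) i ≫ (SheafOfModules.ιFree (R := R.over U) i ≫ gen M s) := by
    simp only [← Category.assoc]
    rw [← Preadditive.sum_comp, sum_coord, Category.id_comp]
  conv_lhs => rw [h]
  rw [app_sum]
  refine Finset.sum_congr rfl fun i _ => ?_
  exact unit_app M _ ((congrFun ((M.over U).freeHomEquiv.apply_symm_apply fun i => mkSec M (s i)) i)) hW _

/-- Generating sections generate locally. -/
theorem exists_combination {I : Type u} [Fintype I] (s : I → M.val.obj (op U)) [Epi (gen M s)] {W : Opens T}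
    (hW : W ≤ U) (x : M.val.obj (op W)) {q : T} (hq : q ∈ W) :
    ∃ (W' : Opens T) (h : W' ≤ W), q ∈ W' ∧ ∃ c : I → R.obj.obj (op W'),
      M.val.map (homOfLE h).op x = ∑ i, c i • M.val.map (homOfLE (h.trans hW)).op (s i) := by
  haveI : Sheaf.IsLocallySurjective ((SheafOfModules.toSheaf (R.over U)).map (gen M s)) :=
    (Sheaf.isLocallySurjective_iff_epi' AddCommGrpCat.{u} ((SheafOfModules.toSheaf (R.over U)).map (gen M s))).2 inferInstance
  have h := Presheaf.imageSieve_mem ((Opens.grothendieckTopology T).over U)
    ((SheafOfModules.toSheaf (R.over U)).map (gen M s)).hom (U := op (Over.mk (homOfLE hW))) x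
  rw [GrothendieckTopology.mem_over_iff] at h
  obtain ⟨W', g, hg, hqW'⟩ := ((Opens.mem_grothendieckTopology T).1 h) q hq
  obtain ⟨V, a, b, ⟨y, hy⟩, hfac⟩ := hg
  have hW'W : W' ≤ W := leOfHom g
  have hV : V.left ≤ W := leOfHom a.left
  have hW'V : W' ≤ V.left := leOfHom b
  let k : Over.mk (homOfLE (hW'W.trans hW)) ⟶ V := Over.homMk (homOfLE hW'V) rfl
  obtain ⟨c, hc⟩ := exists_gen_app_eq M s (hW'W.trans hW) ((SheafOfModules.free I).val.map k.op y)
  refine ⟨W', hW'W, hqW', c, Eq.trans ?_ hc⟩
  have h1 := congrArg (fun z => (M.over U).val.map k.op z) hy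
  refine Eq.trans ?_ (PresheafOfModules.naturality_apply (gen M s).val k.op y).symm
  refine Eq.trans ?_ h1.symm
  exact (PresheafOfModules.map_comp_apply M.val a.left.op k.left.op x).trans rfl

/-- Sections generate once they span the members of a generating family. -/
theorem epi_gen_of_span {I : Type u} [Fintype I] (s : I → M.val.obj (op U)) (g : (M.over U).GeneratingSections)
    (h : ∀ j, ∃ b : I → R.obj.obj (op U),
      (show M.val.obj (op U) from (g.s j).val (op (Over.mk (𝟙 U)))) = ∑ i, b i • s i) : Epi (gen M s) := by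
  choose b hb using h
  let mul : R.obj.obj (op U) → (SheafOfModules.unit (R.over U) ⟶ SheafOfModules.unit (R.over U)) := fun r =>
    (SheafOfModules.unit (R.over U)).unitHomEquiv.symm (mkSec (SheafOfModules.unit R) r)
  let lift : SheafOfModules.free (R := R.over U) g.I ⟶ SheafOfModules.free I :=
    Cofan.IsColimit.desc (SheafOfModules.isColimitFreeCofan (R := R.over U) g.I)
      fun j => ∑ i, mul (b j i) ≫ SheafOfModules.ιFree i
  have hfac : lift ≫ gen M s = g.π := by
    refine Cofan.IsColimit.hom_ext (SheafOfModules.isColimitFreeCofan (R := R.over U) g.I) _ _ fun j => ?_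
    show SheafOfModules.ιFree j ≫ lift ≫ gen M s = SheafOfModules.ιFree j ≫ g.π
    rw [← Category.assoc, show SheafOfModules.ιFree j ≫ lift = ∑ i, mul (b j i) ≫ SheafOfModules.ιFree i from
      Cofan.IsColimit.fac _ _ j, Preadditive.sum_comp]
    refine (M.over U).unitHomEquiv.injective ?_
    rw [eq_mkSec M ((M.over U).unitHomEquiv _)]
    refine Eq.trans ?_ (((eq_mkSec M (g.s j)).symm).trans
      (congrFun ((M.over U).freeHomEquiv.apply_symm_apply g.s) j).symm)
    refine congrArg (mkSec M) ?_
    rw [hb j]
    refine (app_sum _ _ _ _).trans (Finset.sum_congr rfl fun i _ => ?_)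
    refine ((unit_app M (SheafOfModules.ιFree i ≫ gen M s)
      (congrFun ((M.over U).freeHomEquiv.apply_symm_apply fun i => mkSec M (s i)) i) (W := U) le_rfl _)).trans ?_
    refine congrArg₂ (fun (r : R.obj.obj (op U)) (t : M.val.obj (op U)) => r • t) ?_
      (show (show M.val.obj (op U) from M.val.map (homOfLE le_rfl).op (s i)) = s i from
        congr($(M.val.presheaf.map_id (op U)) (s i)))
    have h1 := congrArg (fun σ : ((SheafOfModules.unit R).over U).sections => σ.val (op (Over.mk (homOfLE (le_refl U)))))
      ((SheafOfModules.unit (R.over U)).unitHomEquiv.apply_symm_apply (mkSec (SheafOfModules.unit R) (b j i)))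
    refine h1.trans ?_
    show R.obj.map (homOfLE (le_refl U)).op (b j i) = b j i
    rw [show (homOfLE (le_refl U)).op = 𝟙 (op U) from rfl, R.obj.map_id]
    rfl
  haveI := g.epi
  exact epi_of_epi_fac hfac

/-- A generating family, seen on `U`. -/
theorem epi_gen_generators (g : (M.over U).GeneratingSections) :
    Epi (gen M fun j => (show M.val.obj (op U) from (g.s j).val (op (Over.mk (𝟙 U))))) := by
  have h1 : (fun j => mkSec M (show M.val.obj (op U) from (g.s j).val (op (Over.mk (𝟙 U))))) = g.s :=
    funext fun j => (eq_mkSec M (g.s j)).symm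
  show Epi ((M.over U).freeHomEquiv.symm _)
  rw [h1]
  exact g.epi

end AModFTLib

end
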