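import Mathlib
import Groth.Prelude.Def_RelSpec2
import Groth.Agent.AModFTLib.Over
import Groth.Agent.S2300
import Groth.Agent.S8302
import Groth.Agent.QCohLib.AffineFinite

/-!
# Finite type modules over the algebra of an affine morphism
-/

set_option autoImplicit false
set_option linter.style.haveILetI false

universe u

open CategoryTheory CategoryTheory.Limits AlgebraicGeometry TopologicalSpace Opposite

noncomputable section

namespace AModFTLib

variable {X S : Scheme.{u}} (f : X ⟶ S)

/-- The direct image algebra as a sheaf of commutative rings. -/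
abbrev alg [IsAffineHom f] : Sheaf (Opens.grothendieckTopology S) CommRingCat.{u} :=
  ⟨(RelSpec.QCAlg.directImage f).presheaf, (RelSpec.QCAlg.directImage f).isSheaf⟩

/-- Its structure map. -/
abbrev algStr [IsAffineHom f] : S.sheaf ⟶ alg f := ⟨(RelSpec.QCAlg.directImage f).str⟩

variable [IsAffineHom f] (F : X.Modules)

/-- The direct image as a module over the direct image algebra. -/
abbrev img : SheafOfModules.{u} (Groth.Agent.S2300.BR (alg f)) := (AMod.dirImg f).obj F

theorem isQCoh_G_over (hF : Coh.IsQCoh F) (U : S.Opens) :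
    Coh.IsQCoh ((Groth.Agent.S2300.G (alg f) (algStr f) U).obj ((img f F).over U)) :=
  haveI := hF
  haveI : Coh.IsQCoh ((Scheme.Modules.pushforward f).obj F) := QCohLib.isQCoh_pushforward f F
  @QCohLib.isQCoh_of_iso _ _ _ (Groth.Agent.S2300.overResIso (alg f) (algStr f) (img f F) U).symm
    (@Scheme.Modules.isQuasicoherent_restrictFunctor _ _ U.ι _ ((Scheme.Modules.pushforward f).obj F) inferInstance)

/-- Spanning sections over an affine open give generators. -/
theorem epi_gen (hF : Coh.IsQCoh F) {U : S.Opens} (hU : IsAffineOpen U) {I : Type u} [Fintype I]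
    (s : I → Γ(F, f ⁻¹ᵁ U)) (hs : Submodule.span Γ(X, f ⁻¹ᵁ U) (Set.range s) = ⊤) :
    Epi (gen (img f F) (U := U) s) := by
  refine epi_gen_of_span (img f F) (U := U) s
    (Groth.Agent.S2300.genSections (alg f) (algStr f) U hU ((img f F).over U) (isQCoh_G_over f F hF U)) fun j => ?_
  let t : Γ(F, f ⁻¹ᵁ U) :=
    ((Groth.Agent.S2300.genSections (alg f) (algStr f) U hU ((img f F).over U) (isQCoh_G_over f F hF U)).s j).val
      (op (Over.mk (𝟙 U)))
  obtain ⟨b, hb⟩ := (Submodule.mem_span_range_iff_exists_fun Γ(X, f ⁻¹ᵁ U)).1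
    (show t ∈ Submodule.span Γ(X, f ⁻¹ᵁ U) (Set.range s) from hs ▸ Submodule.mem_top)
  exact ⟨b, hb.symm⟩

theorem isFiniteType_img (hF : Coh.IsQCoh F) (h : CohB1.IsFT F) : (img f F).IsFiniteType := by
  haveI := hF
  have hgen : ∀ U : S.affineOpens, ∃ (I : Type u) (_ : Fintype I) (s : I → Γ(F, f ⁻¹ᵁ U.1)),
      Epi (gen (img f F) (U := U.1) s) := fun U => by
    obtain ⟨⟨T, hT⟩⟩ := QCohLib.finite_of_isFT h (U.2.preimage f)
    exact ⟨T, inferInstance, Subtype.val, epi_gen f F hF U.2 _ (by rwa [Subtype.range_coe])⟩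
  choose I hI s hs using hgen
  let σ : (img f F).LocalGeneratorsData :=
    { I := S.affineOpens
      X := fun U => U.1
      coversTop := (Opens.coversTop_iff (S : Type u) _).mpr (iSup_affineOpens_eq_top S)
      generators := fun U => ⟨I U, fun i => mkSec (img f F) (s U i), hs U⟩ }
  exact SheafOfModules.IsFiniteType.mk (M := img f F) ⟨σ, SheafOfModules.LocalGeneratorsData.IsFiniteType.mk
    (M := img f F) (p := σ) fun U => SheafOfModules.GeneratingSections.IsFiniteType.mk (σ := σ.generators U)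
      (show Finite (I U) from @Finite.of_fintype _ (hI U))⟩

/-- Generators of the direct image give local combinations of sections. -/
theorem exists_combination_img {U : S.Opens} {I : Type u} [Fintype I] (s : I → Γ(F, f ⁻¹ᵁ U))
    [Epi (gen (img f F) (U := U) s)] {W : S.Opens} (hW : W ≤ U) (x : Γ(F, f ⁻¹ᵁ W)) {q : S} (hq : q ∈ W) :
    ∃ (W' : S.Opens) (h : W' ≤ W), q ∈ W' ∧ ∃ c : I → Γ(X, f ⁻¹ᵁ W'),
      F.presheaf.map (homOfLE (f.preimage_mono h)).op x =
        ∑ i, c i • F.presheaf.map (homOfLE (f.preimage_mono (h.trans hW))).op (s i) := by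
  obtain ⟨W', h, hqW', c, hc⟩ := exists_combination (img f F) (U := U) s hW x hq
  exact ⟨W', h, hqW', c, hc⟩

/-- Generators of the direct image generate the module. -/
theorem genOn_of_epi (hF : Coh.IsQCoh F) {U : S.Opens} {I : Type u} [Fintype I] (s : I → Γ(F, f ⁻¹ᵁ U))
    [Epi (gen (img f F) (U := U) s)] : QCohLib.GenOn F (f ⁻¹ᵁ U) s := by
  haveI := hF
  intro V hV t q hq
  obtain ⟨U', hU', hqU', hU'U⟩ := exists_isAffineOpen_mem_and_subset (X := S) (x := f q) (U := U) (hV hq)
  have hU'le : U' ≤ U := fun z hz => hU'U hz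
  obtain ⟨r, hle, hqr⟩ := QCohLib.exists_basicOpen_nhd (hU'.preimage f) hq (show q ∈ f ⁻¹ᵁ U' from hqU')
  obtain ⟨m, t', ht'⟩ := (QCohLib.localizingAt_of_isQCoh (hU'.preimage f) F r).exists_extend
    (F.presheaf.map (homOfLE hle).op t)
  obtain ⟨W, hWU', hqW, c, hc⟩ := exists_combination_img f F (U := U) s hU'le t' (q := f q) hqU'
  obtain ⟨v, hv⟩ := Groth.Agent.S8302.isUnit_res' r m
  let O : X.Opens := X.basicOpen r ⊓ f ⁻¹ᵁ W
  have hOr : O ≤ X.basicOpen r := inf_le_left
  have hOW : O ≤ f ⁻¹ᵁ W := inf_le_right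
  let d := X.presheaf.map (homOfLE hOr).op ((v⁻¹ : Γ(X, X.basicOpen r)ˣ) : Γ(X, X.basicOpen r))
  refine ⟨O, hOr.trans hle, hOW.trans (f.preimage_mono (hWU'.trans hU'le)), ⟨hqr, hqW⟩,
    fun j => d * X.presheaf.map (homOfLE hOW).op (c j), ?_⟩
  have hc' := congrArg (F.presheaf.map (homOfLE hOW).op) hc
  have h1 : F.presheaf.map (homOfLE hOW).op (F.presheaf.map (homOfLE (f.preimage_mono hWU')).op t') =
      ∑ j, X.presheaf.map (homOfLE hOW).op (c j) •
        F.presheaf.map (homOfLE (hOW.trans (f.preimage_mono (hWU'.trans hU'le)))).op (s j) := by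
    rw [hc', map_sum]
    refine Finset.sum_congr rfl fun j _ => ?_
    rw [QCohLib.map_smul', QCohLib.map_map']
    rfl
  have h2 : F.presheaf.map (homOfLE hOW).op (F.presheaf.map (homOfLE (f.preimage_mono hWU')).op t') =
      X.presheaf.map (homOfLE hOr).op (v : Γ(X, X.basicOpen r)) •
        F.presheaf.map (homOfLE (hOr.trans hle)).op t := by
    have h2' := congrArg (F.presheaf.map (homOfLE hOr).op) ht'
    rw [← hv, QCohLib.map_map', QCohLib.map_smul', QCohLib.map_map'] at h2'
    rw [QCohLib.map_map']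
    exact h2'
  have h3 := h2.symm.trans h1
  simp only [mul_smul, ← Finset.smul_sum]
  rw [← h3, smul_smul, ← map_mul, Units.inv_mul, map_one, one_smul]

theorem isFT_of_isFiniteType_img (hF : Coh.IsQCoh F) (h : SheafOfModules.IsFiniteType.{u} (img f F)) :
    CohB1.IsFT F := by
  haveI := hF
  obtain ⟨σ, hσ⟩ := h.exists_localGeneratorsData
  refine QCohLib.isFT_of_forall fun p => ?_
  obtain ⟨i, hi⟩ : ∃ i, f p ∈ σ.X i :=
    Opens.mem_iSup.mp ((((Opens.coversTop_iff (S : Type u) σ.X).mp σ.coversTop)).ge (Opens.mem_top (f p)))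
  let U : S.Opens := σ.X i
  haveI : Finite (σ.generators i).I := (hσ.isFiniteType i).finite
  obtain ⟨n, ⟨e⟩⟩ := Finite.exists_equiv_fin (σ.generators i).I
  let _ : Fintype (σ.generators i).I := Fintype.ofFinite _
  let s : (σ.generators i).I → Γ(F, f ⁻¹ᵁ U) := fun j => ((σ.generators i).s j).val (op (Over.mk (𝟙 U)))
  haveI : Epi (gen (img f F) (U := U) s) := epi_gen_generators (img f F) (σ.generators i)
  exact ⟨f ⁻¹ᵁ U, hi, n, _, (genOn_of_epi f F hF (U := U) s).reindex (Equiv.ulift.trans e.symm)⟩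

end AModFTLib

end
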